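import Mathlib
import Groth.Prelude.Def_HopfRep

/-!
# Comodules over a coalgebra with a basis of group-like elements

Weight decomposition of a comodule over `k[M]` (or any coalgebra with a basis of group-like elements)
over an arbitrary commutative ring.
-/

set_option autoImplicit false

universe u v w

open scoped TensorProduct
open Coalgebra (comul counit)

namespace Groth.Agent.GrpAlgComod

variable {k : Type u} [CommRing k] {A : Type v} [AddCommGroup A] [Module k A] [Coalgebra k A]
  {V : Type w} [AddCommGroup V] [Module k V] {ι : Type*} (e : Module.Basis ι k A)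

/-- The `a`-th coefficient of an element of `V ⊗ A`. -/
noncomputable def coef (a : ι) : V ⊗[k] A →ₗ[k] V :=
  (TensorProduct.rid k V).toLinearMap ∘ₗ (e.coord a).lTensor V

theorem coef_tmul (a : ι) (v : V) (x : A) : coef e a (v ⊗ₜ[k] x) = e.coord a x • v := by
  simp [coef]

theorem coef_basis [DecidableEq ι] (a b : ι) (v : V) :
    coef e a (v ⊗ₜ[k] e b) = if b = a then v else 0 := by
  rw [coef_tmul, Module.Basis.coord_apply, Module.Basis.repr_self, Finsupp.single_apply]
  split_ifs <;> simp

theorem exists_finset_expansion (x : V ⊗[k] A) : ∃ s : Finset ι, (∀ a ∉ s, coef e a x = 0) ∧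
    x = ∑ a ∈ s, coef e a x ⊗ₜ[k] e a := by
  classical
  have key : ∀ (x : V ⊗[k] A) (s t : Finset ι), s ⊆ t → (∀ a ∉ s, coef e a x = 0) →
      (∑ a ∈ t, coef e a x ⊗ₜ[k] e a) = ∑ a ∈ s, coef e a x ⊗ₜ[k] e a := fun x s t hst h =>
    (Finset.sum_subset hst (fun a _ ha => by rw [h a ha, TensorProduct.zero_tmul])).symm
  induction x using TensorProduct.induction_on with
  | zero => exact ⟨∅, fun a _ => map_zero _, by simp⟩
  | tmul v f =>
    refine ⟨(e.repr f).support, fun a ha => ?_, ?_⟩
    · rw [coef_tmul, Module.Basis.coord_apply, Finsupp.notMem_support_iff.mp ha, zero_smul]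
    · conv_lhs => rw [← e.linearCombination_repr f, Finsupp.linearCombination_apply, Finsupp.sum,
        TensorProduct.tmul_sum]
      refine Finset.sum_congr rfl fun a _ => ?_
      rw [coef_tmul, Module.Basis.coord_apply, TensorProduct.tmul_smul, TensorProduct.smul_tmul']
  | add x y hx hy =>
    obtain ⟨s, hs, hxe⟩ := hx
    obtain ⟨t, ht, hye⟩ := hy
    refine ⟨s ∪ t, fun a ha => ?_, ?_⟩
    · rw [map_add, hs a (fun h => ha (Finset.mem_union_left _ h)),
        ht a (fun h => ha (Finset.mem_union_right _ h)), add_zero]
    · simp only [map_add, TensorProduct.add_tmul, Finset.sum_add_distrib]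
      rw [key x s _ Finset.subset_union_left hs, key y t _ Finset.subset_union_right ht, ← hxe, ← hye]

theorem ext_coef {x y : V ⊗[k] A} (h : ∀ a, coef e a x = coef e a y) : x = y := by
  obtain ⟨s, hs, he⟩ := exists_finset_expansion e (x - y)
  have : x - y = 0 := by
    rw [he]
    exact Finset.sum_eq_zero (fun a _ => by rw [map_sub, h a, sub_self, TensorProduct.zero_tmul])
  exact sub_eq_zero.mp this

variable [HopfRep.Comod k A V]

/-- The weight projection. -/
noncomputable def wproj (a : ι) : V →ₗ[k] V := coef e a ∘ₗ HopfRep.Comod.coact (k := k) (A := A)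

theorem wproj_apply (a : ι) (v : V) : wproj e a v = coef e a (HopfRep.Comod.coact (k := k) (A := A) v) := rfl

theorem coact_eq_sum (v : V) : ∃ s : Finset ι, (∀ a ∉ s, wproj e a v = 0) ∧
    HopfRep.Comod.coact (k := k) (A := A) v = ∑ a ∈ s, wproj e a v ⊗ₜ[k] e a :=
  exists_finset_expansion e _

variable (hΔ : ∀ a, comul (R := k) (e a) = e a ⊗ₜ[k] e a)

include hΔ in
theorem coact_wproj (a : ι) (v : V) :
    HopfRep.Comod.coact (k := k) (A := A) (wproj e a v) = wproj e a v ⊗ₜ[k] e a := by
  classical
  let ρ := HopfRep.Comod.coact (k := k) (A := A) (V := V)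
  have hrid : ∀ (y : V ⊗[k] A),
      (TensorProduct.rid k A).toLinearMap.lTensor V
        (((e.coord a).lTensor A).lTensor V (comul.lTensor V y)) = coef e a y ⊗ₜ[k] e a := by
    intro y
    induction y using TensorProduct.induction_on with
    | zero => simp
    | add x y hx hy => simp only [map_add, TensorProduct.add_tmul, hx, hy]
    | tmul w f =>
      have hlin : (TensorProduct.rid k A).toLinearMap ∘ₗ (e.coord a).lTensor A ∘ₗ comul (R := k) =
          (e.coord a).smulRight (e a) := by
        refine e.ext fun b => ?_
        simp only [LinearMap.comp_apply, hΔ, LinearMap.lTensor_tmul, LinearEquiv.coe_coe,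
          TensorProduct.rid_tmul, LinearMap.smulRight_apply]
        rw [Module.Basis.coord_apply, Module.Basis.repr_self, Finsupp.single_apply]
        split_ifs with h
        · rw [h]
        · simp
      have := LinearMap.congr_fun hlin f
      simp only [LinearMap.comp_apply, LinearMap.smulRight_apply] at this
      simp only [LinearMap.lTensor_tmul, this, coef_tmul, TensorProduct.tmul_smul, TensorProduct.smul_tmul']
  have hlhs : ∀ (y : V ⊗[k] A), (TensorProduct.rid k A).toLinearMap.lTensor V
      (((e.coord a).lTensor A).lTensor V (TensorProduct.assoc k V A A (ρ.rTensor A y))) =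
        ρ (coef e a y) := by
    intro y
    induction y using TensorProduct.induction_on with
    | zero => simp
    | add x y hx hy => simp only [map_add, hx, hy]
    | tmul w f =>
      rw [coef_tmul, map_smul, LinearMap.rTensor_tmul]
      induction ρ w using TensorProduct.induction_on with
      | zero => simp
      | add x y hx hy => simp only [map_add, TensorProduct.add_tmul, smul_add, hx, hy]
      | tmul x g => simp [TensorProduct.smul_tmul']
  have h := LinearMap.congr_fun (HopfRep.Comod.coassoc (k := k) (A := A) (V := V)) v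
  simp only [LinearMap.comp_apply, LinearEquiv.coe_coe] at h
  rw [wproj_apply, ← hrid, ← hlhs]
  exact congrArg _ (congrArg _ h)

theorem wproj_of_mem [DecidableEq ι] {a : ι} {v : V} (hv : HopfRep.Comod.coact (k := k) (A := A) v = v ⊗ₜ[k] e a) (b : ι) :
    wproj e b v = if a = b then v else 0 := by
  rw [wproj_apply, hv, coef_basis]

variable (hε : ∀ a, counit (R := k) (e a) = 1)

include hε in
theorem sum_wproj (v : V) {s : Finset ι}
    (hs : HopfRep.Comod.coact (k := k) (A := A) v = ∑ a ∈ s, wproj e a v ⊗ₜ[k] e a) :
    ∑ a ∈ s, wproj e a v = v := by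
  have h := LinearMap.congr_fun (HopfRep.Comod.counit_comp (k := k) (A := A) (V := V)) v
  rw [LinearMap.comp_apply, hs, map_sum] at h
  have h2 := congrArg (TensorProduct.rid k V) h
  simp only [LinearMap.lTensor_tmul, hε, map_sum, TensorProduct.rid_tmul, one_smul, LinearMap.flip_apply,
    TensorProduct.mk_apply] at h2
  exact h2

include hε in
theorem eq_sum_wproj (v : V) : ∃ s : Finset ι, (∀ a ∉ s, wproj e a v = 0) ∧
    HopfRep.Comod.coact (k := k) (A := A) v = ∑ a ∈ s, wproj e a v ⊗ₜ[k] e a ∧
    ∑ a ∈ s, wproj e a v = v := by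
  obtain ⟨s, hs, he⟩ := coact_eq_sum e v
  exact ⟨s, hs, he, sum_wproj e hε v he⟩

end Groth.Agent.GrpAlgComod
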